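import Groth.Prelude.Def_EtModD2
import Groth.Agent.EtCechLib.Cartan
import Mathlib.RingTheory.Flat.Equalizer
import Mathlib.RingTheory.Flat.TorsionFree
import Mathlib.RingTheory.TensorProduct.Basic
import Mathlib.GroupTheory.FreeAbelianGroup
import Mathlib.Algebra.FreeAbelianGroup.Finsupp

/-!
# Injective sheaves of modules are acyclic as abelian sheaves
-/

set_option autoImplicit false
set_option backward.isDefEq.respectTransparency.types false

universe u

open CategoryTheory CategoryTheory.Limits CategoryTheory.Abelian AlgebraicGeometry Opposite TensorProduct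

noncomputable section

namespace Groth.Agent.EtModAbCmp

variable (Λ : Type (u + 1)) [CommRing Λ] {X : Scheme.{u}}

/-- sections have no additive torsion -/
def TF (T : EtCoh.Ab X) : Prop := ∀ V : X.Etaleᵒᵖ, IsAddTorsionFree (T.obj.obj V)

theorem tf_of_mono {S T : EtCoh.Ab X} (i : S ⟶ T) [Mono i] (hT : TF T) : TF S := fun V => by
  have := hT V
  exact Function.Injective.isAddTorsionFree (i.hom.app V).hom
    (S14452.injective_app_of_mono i inferInstance V.unop)

theorem tf_presheafToSheaf (P : X.Etaleᵒᵖ ⥤ AddCommGrpCat.{u + 1})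
    (hP : ∀ V, IsAddTorsionFree (P.obj V)) :
    TF ((presheafToSheaf X.smallEtaleTopology AddCommGrpCat.{u + 1}).obj P) := by
  intro V
  refine ⟨fun n hn => ?_⟩
  have : ∀ W, Mono ((n • 𝟙 P : P ⟶ P).app W) := fun W => by
    refine (AddCommGrpCat.mono_iff_injective _).2 fun a b hab => ?_
    have := hP W
    simp only [NatTrans.app_nsmul, NatTrans.id_app] at hab
    exact nsmul_right_injective hn hab
  have : Mono (n • 𝟙 P) := NatTrans.mono_of_mono_app _
  have : (presheafToSheaf X.smallEtaleTopology AddCommGrpCat.{u + 1}).Additive := inferInstance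
  have h : Mono (n • 𝟙 ((presheafToSheaf X.smallEtaleTopology AddCommGrpCat.{u + 1}).obj P)) := by
    rw [← CategoryTheory.Functor.map_id (presheafToSheaf X.smallEtaleTopology AddCommGrpCat.{u + 1}),
      ← CategoryTheory.Functor.map_nsmul]
    infer_instance
  intro a b hab
  exact S14452.injective_app_of_mono _ h V.unop (by exact hab)

theorem exists_tf_cover (G : EtCoh.Ab X) : ∃ (P : EtCoh.Ab X) (p : P ⟶ G), Epi p ∧ TF P := by
  let P₀ := G.obj ⋙ forget AddCommGrpCat.{u + 1} ⋙ AddCommGrpCat.free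
  let ε : P₀ ⟶ G.obj := Functor.whiskerLeft G.obj AddCommGrpCat.adj.counit ≫ (Functor.rightUnitor _).hom
  have : ∀ V, Epi (ε.app V) := fun V => by
    have hs : IsSplitEpi ((forget AddCommGrpCat.{u + 1}).map (ε.app V)) := by
      refine IsSplitEpi.mk' ⟨AddCommGrpCat.adj.unit.app _, ?_⟩
      exact (congrArg (fun k => AddCommGrpCat.adj.unit.app ((forget AddCommGrpCat.{u + 1}).obj (G.obj.obj V)) ≫
        (forget AddCommGrpCat.{u + 1}).map k) (Category.comp_id _)).trans (AddCommGrpCat.adj.right_triangle_components _)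
    exact (forget AddCommGrpCat.{u + 1}).epi_of_epi_map inferInstance
  have : Epi ε := NatTrans.epi_of_epi_app _
  refine ⟨_, (presheafToSheaf X.smallEtaleTopology AddCommGrpCat.{u + 1}).map ε ≫
    (sheafificationAdjunction X.smallEtaleTopology AddCommGrpCat.{u + 1}).counit.app G, ?_, ?_⟩
  · have : IsIso ((sheafificationAdjunction X.smallEtaleTopology AddCommGrpCat.{u + 1}).counit.app G) := inferInstance
    have := (sheafificationAdjunction X.smallEtaleTopology AddCommGrpCat.{u + 1}).leftAdjoint_preservesColimits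
    have : Epi ((presheafToSheaf X.smallEtaleTopology AddCommGrpCat.{u + 1}).map ε) := inferInstance
    exact epi_comp _ _
  · refine tf_presheafToSheaf _ fun V => ?_
    show IsAddTorsionFree (FreeAbelianGroup ((forget AddCommGrpCat.{u + 1}).obj (G.obj.obj V)))
    exact Function.Injective.isAddTorsionFree
      (FreeAbelianGroup.equivFinsupp ((forget AddCommGrpCat.{u + 1}).obj (G.obj.obj V))).toAddMonoidHom
      (FreeAbelianGroup.equivFinsupp ((forget AddCommGrpCat.{u + 1}).obj (G.obj.obj V))).injective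

/-- `Λ ⊗ -` on abelian groups -/
def tens : AddCommGrpCat.{u + 1} ⥤ ModuleCat.{u + 1} Λ where
  obj M := ModuleCat.of Λ (Λ ⊗[ℤ] M)
  map f := ModuleCat.ofHom (f.hom.toIntLinearMap.baseChange Λ)
  map_id M := by
    ext : 1
    exact LinearMap.baseChange_id
  map_comp f g := by
    ext : 1
    exact LinearMap.baseChange_comp f.hom.toIntLinearMap g.hom.toIntLinearMap

/-- underlying abelian presheaf -/
abbrev und : (X.Etaleᵒᵖ ⥤ ModuleCat.{u + 1} Λ) → (X.Etaleᵒᵖ ⥤ AddCommGrpCat.{u + 1}) :=
  fun P => P ⋙ forget₂ (ModuleCat.{u + 1} Λ) AddCommGrpCat.{u + 1}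

theorem exists_retraction (I : EtModW.Mod Λ X) [Injective I] {E T : EtCoh.Ab X}
    (a : (EtModD.forgetToAb Λ X).obj I ⟶ E) (q : E ⟶ T) (w : a ≫ q = 0)
    (hS : (ShortComplex.mk a q w).ShortExact) (hT : TF T) :
    ∃ r : E ⟶ (EtModD.forgetToAb Λ X).obj I, a ≫ r = 𝟙 _ := by
  have : Injective I.obj :=
    Injective.injective_of_adjoint (sheafificationAdjunction X.smallEtaleTopology (ModuleCat.{u + 1} Λ)) I
  let μ : und Λ I.obj ⋙ tens Λ ⟶ I.obj :=
    { app := fun V => ModuleCat.ofHom
        ((LinearMap.id : (I.obj.obj V) →ₗ[ℤ] (I.obj.obj V)).liftBaseChange Λ)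
      naturality := fun V W k => by
        refine ModuleCat.hom_ext (TensorProduct.AlgebraTensorModule.ext fun c x => ?_)
        exact ((I.obj.map k).hom.map_smul c x).symm }
  let ta : und Λ I.obj ⋙ tens Λ ⟶ E.obj ⋙ tens Λ := Functor.whiskerRight a.hom (tens Λ)
  have : ∀ V, Mono (ta.app V) := fun V => by
    refine (ModuleCat.mono_iff_injective _).2 ?_
    let f : E.obj.obj V →ₗ[ℤ] T.obj.obj V := (q.hom.app V).hom.toIntLinearMap
    let g : (und Λ I.obj).obj V →ₗ[ℤ] E.obj.obj V := (a.hom.app V).hom.toIntLinearMap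
    have := hT V
    have : Module.IsTorsionFree ℤ (LinearMap.range f) := inferInstance
    have : Module.Flat ℤ (LinearMap.range f) := inferInstance
    have hex : Function.Exact g f.rangeRestrict := by
      intro b
      constructor
      · intro hb
        exact S14452.exact_sections hS V.unop b (congrArg Subtype.val hb)
      · rintro ⟨c, rfl⟩
        exact Subtype.ext (ConcreteCategory.congr_hom (congrArg (fun k => k.hom.app V) w) c)
    have hg : Function.Injective g := S14452.injective_app_of_mono a hS.mono_f V.unop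
    exact LinearMap.lTensor_injective_of_exact_of_flat f.rangeRestrict f.surjective_rangeRestrict g hg hex Λ
  have : Mono ta := NatTrans.mono_of_mono_app _
  let R := Injective.factorThru μ ta
  let r₀ : E.obj ⟶ und Λ I.obj :=
    { app := fun V => AddCommGrpCat.ofHom
        ((R.app V).hom.toAddMonoidHom.comp (TensorProduct.mk ℤ Λ (E.obj.obj V) 1).toAddMonoidHom)
      naturality := fun V W k => by
        refine AddCommGrpCat.hom_ext (AddMonoidHom.ext fun e => ?_)
        exact ConcreteCategory.congr_hom (R.naturality k) ((1 : Λ) ⊗ₜ[ℤ] e) }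
  refine ⟨⟨r₀⟩, Sheaf.hom_ext (NatTrans.ext (funext fun V => AddCommGrpCat.hom_ext (AddMonoidHom.ext fun x => ?_)))⟩
  have h := ConcreteCategory.congr_hom (NatTrans.congr_app (Injective.comp_factorThru μ ta) V)
    ((1 : Λ) ⊗ₜ[ℤ] x)
  exact h.trans (one_smul Λ _)

theorem ext_one_eq_zero (I : EtModW.Mod Λ X) [Injective I] (T : EtCoh.Ab X) (hT : TF T)
    (x : Ext.{u + 1} T ((EtModD.forgetToAb Λ X).obj I) 1) : x = 0 := by
  let A := (EtModD.forgetToAb Λ X).obj I
  let S := ShortComplex.mk (Injective.ι A) (cokernel.π (Injective.ι A)) (cokernel.condition _)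
  have hS : S.ShortExact :=
    { exact := S.exact_of_g_is_cokernel (cokernelIsCokernel _)
      mono_f := inferInstanceAs (Mono (Injective.ι A))
      epi_g := inferInstanceAs (Epi (cokernel.π (Injective.ι A))) }
  have : Injective S.X₂ := inferInstanceAs (Injective (Injective.under A))
  obtain ⟨y, rfl⟩ := Ext.covariant_sequence_exact₁ T hS x (Ext.eq_zero_of_injective _) (zero_add 1)
  obtain ⟨ψ, rfl⟩ := (Ext.mk₀_bijective T S.X₃).2 y
  have := hS.epi_g
  have := hS.mono_f
  let a : A ⟶ pullback S.g ψ := pullback.lift S.f 0 (by rw [S.zero, zero_comp])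
  have w : a ≫ pullback.snd S.g ψ = 0 := pullback.lift_snd _ _ _
  have : Mono a := mono_of_mono_fac (pullback.lift_fst S.f 0 _)
  have hE : (ShortComplex.mk a (pullback.snd S.g ψ) w).ShortExact :=
    { exact := ShortComplex.exact_of_f_is_kernel _ (KernelFork.IsLimit.ofι' _ _ fun {W} k hk => by
        have hk' : (k ≫ pullback.fst S.g ψ) ≫ S.g = 0 := by
          rw [Category.assoc, pullback.condition, reassoc_of% hk, zero_comp]
        refine ⟨hS.exact.lift _ hk', pullback.hom_ext ?_ ?_⟩
        · rw [Category.assoc, pullback.lift_fst, hS.exact.lift_f]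
        · rw [Category.assoc, w, comp_zero, hk])
      mono_f := ‹Mono a›
      epi_g := inferInstanceAs (Epi (pullback.snd S.g ψ)) }
  obtain ⟨r, hr⟩ := exists_retraction Λ I a _ w hE hT
  have := hE.epi_g
  let ℓ : T ⟶ S.X₂ := hE.exact.desc (pullback.fst S.g ψ - r ≫ S.f) (by
    show a ≫ _ = 0
    rw [Preadditive.comp_sub, pullback.lift_fst, reassoc_of% hr, sub_self])
  have hl : ℓ ≫ S.g = ψ := by
    rw [← cancel_epi (pullback.snd S.g ψ), ← Category.assoc]
    show ((ShortComplex.mk a (pullback.snd S.g ψ) w).g ≫ ℓ) ≫ S.g = _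
    rw [hE.exact.g_desc, Preadditive.sub_comp, Category.assoc, S.zero, comp_zero, sub_zero, pullback.condition]
  rw [← hl, ← Ext.mk₀_comp_mk₀]
  exact (Ext.comp_assoc_of_second_deg_zero (Ext.mk₀ ℓ) (Ext.mk₀ S.g) hS.extClass (zero_add 1)).trans
    ((congrArg (fun e => Ext.comp _ e (zero_add 1)) hS.comp_extClass).trans (Ext.comp_zero _ _ _ _ _))

theorem exists_epi_killing : ∀ (n : ℕ) (T A : EtCoh.Ab X) (x : Ext.{u + 1} T A (n + 1)),
    ∃ (T' : EtCoh.Ab X) (p : T' ⟶ T), Epi p ∧ (Ext.mk₀ p).comp x (zero_add _) = 0 := by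
  intro n
  induction n with
  | zero =>
    intro T A x
    let S := ShortComplex.mk (Injective.ι A) (cokernel.π (Injective.ι A)) (cokernel.condition _)
    have hS : S.ShortExact :=
      { exact := S.exact_of_g_is_cokernel (cokernelIsCokernel _)
        mono_f := inferInstanceAs (Mono (Injective.ι A))
        epi_g := inferInstanceAs (Epi (cokernel.π (Injective.ι A))) }
    have : Injective S.X₂ := inferInstanceAs (Injective (Injective.under A))
    obtain ⟨y, rfl⟩ := Ext.covariant_sequence_exact₁ T hS x (Ext.eq_zero_of_injective _) (zero_add 1)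
    obtain ⟨ψ, rfl⟩ := (Ext.mk₀_bijective T S.X₃).2 y
    have := hS.epi_g
    refine ⟨pullback S.g ψ, pullback.snd _ _, inferInstance, ?_⟩
    rw [← Ext.comp_assoc_of_second_deg_zero, Ext.mk₀_comp_mk₀, ← pullback.condition, ← Ext.mk₀_comp_mk₀,
      Ext.comp_assoc_of_second_deg_zero]
    exact (congrArg (fun e => Ext.comp _ e (zero_add 1)) hS.comp_extClass).trans (Ext.comp_zero _ _ _ _ _)
  | succ n ih =>
    intro T A x
    let S := ShortComplex.mk (Injective.ι A) (cokernel.π (Injective.ι A)) (cokernel.condition _)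
    have hS : S.ShortExact :=
      { exact := S.exact_of_g_is_cokernel (cokernelIsCokernel _)
        mono_f := inferInstanceAs (Mono (Injective.ι A))
        epi_g := inferInstanceAs (Epi (cokernel.π (Injective.ι A))) }
    have : Injective S.X₂ := inferInstanceAs (Injective (Injective.under A))
    obtain ⟨y, rfl⟩ := Ext.covariant_sequence_exact₁ T hS x (Ext.eq_zero_of_injective _) rfl
    obtain ⟨T', p, hp, hy⟩ := ih T S.X₃ y
    refine ⟨T', p, hp, ?_⟩
    rw [← Ext.comp_assoc (Ext.mk₀ p) y hS.extClass (zero_add _) rfl (by omega), hy, Ext.zero_comp]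

theorem ext_eq_zero (I : EtModW.Mod Λ X) [Injective I] : ∀ (m : ℕ) (T : EtCoh.Ab X), TF T →
    ∀ x : Ext.{u + 1} T ((EtModD.forgetToAb Λ X).obj I) (m + 1), x = 0 := by
  intro m
  induction m with
  | zero => exact fun T hT x => ext_one_eq_zero Λ I T hT x
  | succ m ih =>
    intro T hT x
    obtain ⟨T', p, hp, hx⟩ := exists_epi_killing (m + 1) T _ x
    obtain ⟨P, p', hp', hP⟩ := exists_tf_cover T'
    let S := ShortComplex.mk (kernel.ι (p' ≫ p)) (p' ≫ p) (kernel.condition _)
    have hS : S.ShortExact :=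
      { exact := S.exact_of_f_is_kernel (kernelIsKernel _)
        mono_f := inferInstanceAs (Mono (kernel.ι (p' ≫ p)))
        epi_g := inferInstanceAs (Epi (p' ≫ p)) }
    have hk : (Ext.mk₀ S.g).comp x (zero_add _) = 0 := by
      show (Ext.mk₀ (p' ≫ p)).comp x _ = 0
      rw [← Ext.mk₀_comp_mk₀, Ext.comp_assoc_of_second_deg_zero, hx, Ext.comp_zero]
    obtain ⟨y, rfl⟩ := Ext.contravariant_sequence_exact₃ hS _ x hk (by omega : 1 + (m + 1) = m + 1 + 1)
    rw [ih _ (tf_of_mono (kernel.ι (p' ≫ p)) hP) y, Ext.comp_zero]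

theorem subsingleton_H (I : EtModW.Mod Λ X) [Injective I] (m : ℕ) :
    Subsingleton (EtCoh.H X ((EtModD.forgetToAb Λ X).obj I) (m + 1)) :=
  subsingleton_of_forall_eq 0 fun x => ext_eq_zero Λ I m _ (tf_presheafToSheaf _ fun _ =>
    Function.Injective.isAddTorsionFree (AddEquiv.ulift (α := ℤ)).toAddMonoidHom AddEquiv.ulift.injective) x

end Groth.Agent.EtModAbCmp
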